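/-
Recognition of `S₄` and `C₂ × S₄` from a normal 2-subgroup containing its centralizer.
-/
import Mathlib.GroupTheory.Sylow
import Mathlib.GroupTheory.Transfer
import Mathlib.GroupTheory.Perm.Basic
import Mathlib.Data.ZMod.Basic
import Mathlib.Data.Fintype.Perm
import Mathlib.GroupTheory.NoncommCoprod
import Mathlib.Tactic.Group

set_option autoImplicit false

namespace CfsgLib.LocalEven.AmalgamS4.Recognition

variable {G : Type*} [Group G]

theorem zmod2_cases (c : Multiplicative (ZMod 2)) : c = 1 ∨ c = Multiplicative.ofAdd 1 := by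
  revert c; decide

theorem zmod2_eq {c d : Multiplicative (ZMod 2)} (hc : c ≠ 1) (hd : d ≠ 1) : c = d :=
  ((zmod2_cases c).resolve_left hc).trans ((zmod2_cases d).resolve_left hd).symm

theorem mulEquiv_perm_four [Finite G] (hG : Nat.card G = 24) (Q : Subgroup G) [Q.Normal] (hQ : Nat.card Q = 4)
    (hC : Subgroup.centralizer (Q : Set G) ≤ Q) (hZ : ∀ x ∈ Q, (∀ g, g * x = x * g) → x = 1) :
    Nonempty (G ≃* Equiv.Perm (Fin 4)) := by
  haveI : Fact (Nat.Prime 3) := ⟨Nat.prime_three⟩
  obtain ⟨P⟩ : Nonempty (Sylow 3 G) := inferInstance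
  have hP : Nat.card P = 3 := by
    obtain ⟨n, hn⟩ := P.2.exists_card_eq
    have h1 := (P : Subgroup G).card_mul_index
    have h2 : ¬ 3 ∣ (P : Subgroup G).index := P.not_dvd_index
    rw [hG, hn] at h1
    rcases n with _ | _ | n
    · rw [pow_zero, one_mul] at h1
      rw [h1] at h2
      exact absurd (by norm_num : 3 ∣ 24) h2
    · simpa using hn
    · exfalso
      have h3 : 9 ∣ 24 := ⟨3 ^ n * (P : Subgroup G).index, by rw [← h1]; ring⟩
      norm_num at h3
  have hidx : (P : Subgroup G).index = 8 := by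
    have h1 := (P : Subgroup G).card_mul_index
    rw [hG, hP] at h1
    omega
  have hn : Nat.card (Sylow 3 G) = 1 ∨ Nat.card (Sylow 3 G) = 4 := by
    have h1 := P.card_dvd_index
    rw [hidx] at h1
    have h2 : Nat.card (Sylow 3 G) % 3 = 1 := card_sylow_modEq_one 3 G
    have h3 := Nat.le_of_dvd (by norm_num) h1
    interval_cases hh : Nat.card (Sylow 3 G) <;> simp_all
  have hn4 : Nat.card (Sylow 3 G) = 4 := by
    refine hn.resolve_left fun h1 => ?_
    haveI : Subsingleton (Sylow 3 G) := (Nat.card_eq_one_iff_unique.1 h1).1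
    haveI := Sylow.normal_of_subsingleton P
    have hd : Disjoint (P : Subgroup G) Q := by
      rw [disjoint_iff]
      exact Subgroup.inf_eq_bot_of_coprime (by rw [hP, hQ]; decide)
    have hle : (P : Subgroup G) ≤ Q := fun x hx => hC fun y hy =>
      (Subgroup.commute_of_normal_of_disjoint _ _ inferInstance inferInstance hd x y hx hy).eq.symm
    have := Subgroup.card_dvd_of_le hle
    rw [hP, hQ] at this
    norm_num at this
  set f := MulAction.toPermHom G (Sylow 3 G)
  have hker : f.ker = ⊥ := by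
    have hle : f.ker ≤ Subgroup.normalizer (P : Set G) := fun g hg =>
      Sylow.smul_eq_iff_mem_normalizer.1 (by
        have := MonoidHom.mem_ker.1 hg
        exact Equiv.ext_iff.1 this P)
    have hN : Nat.card (Subgroup.normalizer (P : Set G)) = 6 := by
      have h1 := (Subgroup.normalizer (P : Set G)).card_mul_index
      rw [← Sylow.card_eq_index_normalizer, hn4, hG] at h1
      omega
    have hd : Nat.card ↥(f.ker ⊓ Q) ∣ 2 := by
      have h1 := Subgroup.card_dvd_of_le ((inf_le_left : f.ker ⊓ Q ≤ f.ker).trans hle)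
      have h2 := Subgroup.card_dvd_of_le (inf_le_right : f.ker ⊓ Q ≤ Q)
      rw [hN] at h1
      rw [hQ] at h2
      exact (by norm_num : Nat.gcd 6 4 = 2) ▸ Nat.dvd_gcd h1 h2
    have hbot : f.ker ⊓ Q = ⊥ := by
      refine (Subgroup.eq_bot_iff_forall _).2 fun x hx => hZ x hx.2 fun g => ?_
      have hx' : g * x * g⁻¹ ∈ f.ker ⊓ Q :=
        ⟨f.normal_ker.conj_mem x hx.1 g, ‹Q.Normal›.conj_mem x hx.2 g⟩
      by_cases e : x = 1
      · rw [e, mul_one, one_mul]
      have h2 : Nat.card ↥(f.ker ⊓ Q) = 2 := by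
        rcases (Nat.dvd_prime Nat.prime_two).1 hd with h | h
        · exact absurd (Subgroup.eq_bot_of_card_eq _ h ▸ hx) (by rwa [Subgroup.mem_bot])
        · exact h
      obtain ⟨a, c, hac, hset⟩ := Nat.card_eq_two_iff.1 h2
      have key : ∀ y : ↥(f.ker ⊓ Q), y = 1 ∨ y = ⟨x, hx⟩ := fun y => by
        have h1 := hset.ge (Set.mem_univ y)
        have h3 := hset.ge (Set.mem_univ (1 : ↥(f.ker ⊓ Q)))
        have h4 := hset.ge (Set.mem_univ (⟨x, hx⟩ : ↥(f.ker ⊓ Q)))
        have h5 : (1 : ↥(f.ker ⊓ Q)) ≠ ⟨x, hx⟩ := fun h => e (congrArg Subtype.val h).symm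
        simp only [Set.mem_insert_iff, Set.mem_singleton_iff] at h1 h3 h4
        rcases h1 with h1 | h1 <;> rcases h3 with h3 | h3 <;> rcases h4 with h4 | h4 <;>
          simp_all
      rcases key ⟨_, hx'⟩ with h | h
      · exact absurd (conj_eq_one_iff.1 (congrArg Subtype.val h)) e
      · exact mul_inv_eq_iff_eq_mul.1 (congrArg Subtype.val h)
    have : f.ker ≤ Q := fun x hx => hC fun y hy =>
      (Subgroup.commute_of_normal_of_disjoint _ _ f.normal_ker inferInstance (disjoint_iff.2 hbot) x y hx hy).eq.symm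
    exact le_bot_iff.1 (hbot ▸ le_inf le_rfl this)
  haveI : Fintype (Sylow 3 G) := Fintype.ofFinite _
  obtain ⟨e⟩ : Nonempty (Sylow 3 G ≃ Fin 4) := ⟨(Finite.equivFin _).trans (finCongr hn4)⟩
  refine ⟨MulEquiv.ofBijective ((e.permCongrHom : _ →* _).comp f) ?_⟩
  refine ⟨e.permCongrHom.injective.comp (MonoidHom.ker_eq_bot_iff f |>.1 hker), ?_⟩
  refine ((Nat.bijective_iff_injective_and_card _).2
    ⟨e.permCongrHom.injective.comp (MonoidHom.ker_eq_bot_iff f |>.1 hker), ?_⟩).2
  rw [hG, Nat.card_eq_fintype_card, Fintype.card_perm, Fintype.card_fin]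
  rfl

theorem mulEquiv_prod [Finite G] (hG : Nat.card G = 48) (Q : Subgroup G) [Q.Normal] (hQ : Nat.card Q = 8)
    (hC : Subgroup.centralizer (Q : Set G) ≤ Q) {k : G} (hkQ : k ∈ Q) (hk2 : k * k = 1)
    (hkc : ∀ g, g * k = k * g) (hZ : ∀ x ∈ Q, (∀ g, g * x = x * g) → x = 1 ∨ x = k)
    (ψ : G →* Multiplicative (ZMod 2)) (hψ : ψ k ≠ 1) :
    Nonempty (G ≃* Multiplicative (ZMod 2) × Equiv.Perm (Fin 4)) := by
  set H := ψ.ker
  have hsurj : Function.Surjective ψ := fun c => by
    rcases zmod2_cases c with rfl | rfl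
    exacts [⟨1, map_one ψ⟩, ⟨k, zmod2_eq hψ (by decide)⟩]
  have hH : Nat.card H = 24 := by
    have h1 := H.card_mul_index
    rw [Subgroup.index_ker, MonoidHom.range_eq_top.2 hsurj, Subgroup.card_top, hG] at h1
    simp only [Nat.card_eq_fintype_card (α := Multiplicative (ZMod 2)), Fintype.card_multiplicative,
      ZMod.card] at h1
    omega
  have split : ∀ g : G, g ∈ H ∨ g * k ∈ H := fun g => by
    by_cases h : ψ g = 1
    · exact Or.inl h
    · right
      rw [MonoidHom.mem_ker, map_mul, zmod2_eq h hψ, ← map_mul, hk2, map_one]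
  have hQH : Nat.card (Q.subgroupOf H) = 4 := by
    have hsQ : Function.Surjective (ψ.comp Q.subtype) := fun c => by
      rcases zmod2_cases c with rfl | rfl
      exacts [⟨1, map_one _⟩, ⟨⟨k, hkQ⟩, zmod2_eq hψ (by decide)⟩]
    have h1 := (ψ.comp Q.subtype).ker.card_mul_index
    rw [Subgroup.index_ker, MonoidHom.range_eq_top.2 hsQ, Subgroup.card_top, hQ] at h1
    simp only [Nat.card_eq_fintype_card (α := Multiplicative (ZMod 2)), Fintype.card_multiplicative,
      ZMod.card] at h1
    have e : Nat.card (Q.subgroupOf H) = Nat.card (ψ.comp Q.subtype).ker :=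
      Nat.card_congr ⟨fun x => ⟨⟨(x : H), x.2⟩, x.1.2⟩, fun x => ⟨⟨(x : Q), x.2⟩, x.1.2⟩,
        fun _ => rfl, fun _ => rfl⟩
    omega
  have hC' : Subgroup.centralizer (Q.subgroupOf H : Set H) ≤ Q.subgroupOf H := fun x hx => by
    refine hC fun y hy => ?_
    rcases split y with h | h
    · exact congrArg Subtype.val (hx ⟨y, h⟩ hy)
    · have h1 : y * k * (x : G) = (x : G) * (y * k) := congrArg Subtype.val (hx ⟨y * k, h⟩ (mul_mem hy hkQ))
      rw [mul_assoc, ← hkc, ← mul_assoc, ← mul_assoc] at h1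
      exact mul_right_cancel h1
  have hZ' : ∀ x ∈ Q.subgroupOf H, (∀ g : H, g * x = x * g) → x = 1 := fun x hx hc => by
    have hcG : ∀ g, g * (x : G) = (x : G) * g := fun g => by
      rcases split g with h | h
      · exact congrArg Subtype.val (hc ⟨g, h⟩)
      · have h1 : g * k * (x : G) = (x : G) * (g * k) := congrArg Subtype.val (hc ⟨g * k, h⟩)
        rw [mul_assoc, ← hkc, ← mul_assoc, ← mul_assoc] at h1
        exact mul_right_cancel h1
    rcases hZ x hx hcG with h | h
    · exact Subtype.ext h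
    · exact absurd (h ▸ MonoidHom.mem_ker.1 x.2) hψ
  obtain ⟨e⟩ := mulEquiv_perm_four hH (Q.subgroupOf H) hQH hC' hZ'
  let φ : Multiplicative (ZMod 2) →* G :=
    MonoidHom.mk' (fun c => if c = 1 then 1 else k) fun a c => by
      rcases zmod2_cases a with rfl | rfl <;> rcases zmod2_cases c with rfl | rfl <;>
        simp [hk2, show (Multiplicative.ofAdd (1 : ZMod 2)) * Multiplicative.ofAdd 1 = 1 from by decide]
  have hφ : ∀ c g, g * φ c = φ c * g := fun c g => by
    show g * (if c = 1 then (1 : G) else k) = (if c = 1 then 1 else k) * g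
    split
    · rw [mul_one, one_mul]
    · exact hkc g
  let F : Multiplicative (ZMod 2) × H →* G := φ.noncommCoprod H.subtype fun c g => (hφ c g).symm
  have hψφ : ∀ c, ψ (φ c) = c := fun c => by
    show ψ (if c = 1 then (1 : G) else k) = c
    split
    · next h => rw [map_one, h]
    · next h => exact zmod2_eq hψ h
  have hinj : Function.Injective F := by
    rw [injective_iff_map_eq_one]
    rintro ⟨c, g⟩ hcg
    have h1 : φ c * (g : G) = 1 := hcg
    have h2 : c = 1 := by
      have h3 := congrArg ψ h1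
      rwa [map_mul, hψφ, map_one, MonoidHom.mem_ker.1 g.2, mul_one] at h3
    subst h2
    rw [map_one, one_mul] at h1
    exact Prod.ext rfl (Subtype.ext h1)
  have hcard : Nat.card (Multiplicative (ZMod 2) × H) = Nat.card G := by
    rw [Nat.card_prod, hH, hG]
    simp [Nat.card_eq_fintype_card (α := Multiplicative (ZMod 2))]
  exact ⟨(MulEquiv.ofBijective F ((Nat.bijective_iff_injective_and_card _).2 ⟨hinj, hcard⟩)).symm.trans
    (MulEquiv.prodCongr (MulEquiv.refl _) e)⟩

/-- A group whose squares lie in a central subgroup `{1, r}` has a character of order 2 non-trivial at any other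
element. -/
theorem exists_character {T : Type*} [Group T] [Finite T] (r k : T) (hr : r * r = 1)
    (hrc : ∀ x, x * r = r * x) (hsq : ∀ x : T, x * x = 1 ∨ x * x = r) (hk₁ : k ≠ 1) (hk₂ : k ≠ r) :
    ∃ ψ : T →* Multiplicative (ZMod 2), ψ k ≠ 1 := by
  classical
  let R : Subgroup T :=
    { carrier := {x | x = 1 ∨ x = r}
      one_mem' := Or.inl rfl
      mul_mem' := by rintro a c (rfl | rfl) (rfl | rfl) <;> simp [hr]
      inv_mem' := by
        rintro a (rfl | rfl)
        · exact Or.inl inv_one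
        · exact Or.inr (inv_eq_of_mul_eq_one_right hr) }
  obtain ⟨H, ⟨hRH, hkH⟩, hmax⟩ := Set.Finite.exists_maximal
    (s := {H : Subgroup T | R ≤ H ∧ k ∉ H}) (Set.toFinite _) ⟨R, le_rfl, fun h => h.elim hk₁ hk₂⟩
  have sqH : ∀ x : T, x * x ∈ H := fun x => hRH (hsq x)
  have hn : H.Normal := ⟨fun y hy x => by
    have e : x * y * x⁻¹ = (x * x) * ((x⁻¹ * y) * (x⁻¹ * y)) * (y * y)⁻¹ * y := by group
    rw [e]
    exact mul_mem (mul_mem (mul_mem (sqH x) (sqH _)) (inv_mem (sqH y))) hy⟩
  have hsplit : ∀ x, x ∉ H → x * k ∈ H := by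
    intro x hx
    let K : Subgroup T :=
      { carrier := {y | y ∈ H ∨ x * y ∈ H}
        one_mem' := Or.inl H.one_mem
        mul_mem' := by
          rintro a c (ha | ha) (hc | hc)
          · exact Or.inl (mul_mem ha hc)
          · refine Or.inr ?_
            rw [show x * (a * c) = x * a * x⁻¹ * (x * c) by group]
            exact mul_mem (hn.conj_mem a ha x) hc
          · exact Or.inr (by rw [← mul_assoc]; exact mul_mem ha hc)
          · refine Or.inl ?_
            rw [show a * c = x⁻¹ * (x * a) * x * ((x * x)⁻¹ * (x * c)) by group]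
            exact mul_mem (by simpa using hn.conj_mem _ ha x⁻¹) (mul_mem (inv_mem (sqH x)) hc)
        inv_mem' := by
          rintro a (ha | ha)
          · exact Or.inl (inv_mem ha)
          · refine Or.inr ?_
            rw [show x * a⁻¹ = x * x * (x⁻¹ * (x * a)⁻¹ * x) by group]
            exact mul_mem (sqH x) (by simpa using hn.conj_mem _ (inv_mem ha) x⁻¹) }
    by_contra hxk
    have hkK : k ∉ K := fun h => h.elim hkH hxk
    have hle : K ≤ H := hmax (y := K) ⟨fun y hy => Or.inl (hRH hy), hkK⟩ (fun y hy => Or.inl hy)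
    exact hx (hle (Or.inr (sqH x)))
  have hidx : H.index = 2 :=
    Subgroup.index_eq_two_iff.2 ⟨k, fun x => by
      by_cases hx : x ∈ H
      · exact Or.inr ⟨hx, fun h => hkH ((mul_mem_cancel_left hx).1 h)⟩
      · exact Or.inl ⟨hsplit x hx, hx⟩⟩
  refine ⟨MonoidHom.mk' (fun x => if x ∈ H then 1 else Multiplicative.ofAdd 1) fun x y => ?_, ?_⟩
  · have := Subgroup.mul_mem_iff_of_index_two hidx (a := x) (b := y)
    by_cases h1 : x ∈ H <;> by_cases h2 : y ∈ H <;> simp_all
    decide
  · show (if k ∈ H then (1 : Multiplicative (ZMod 2)) else Multiplicative.ofAdd 1) ≠ 1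
    rw [if_neg hkH]; decide

/-- A character of a subgroup of odd index extends at a central involution. -/
theorem exists_extension (T : Subgroup G) [T.FiniteIndex] (hodd : Odd T.index) {k : G} (hk : k ∈ T)
    (hk2 : k * k = 1) (hkc : ∀ g, g * k = k * g) (ψ : T →* Multiplicative (ZMod 2)) (hψ : ψ ⟨k, hk⟩ ≠ 1) :
    ∃ φ : G →* Multiplicative (ZMod 2), φ k ≠ 1 := by
  refine ⟨ψ.transfer, ?_⟩
  have hkey : ∀ (m : ℕ) (g₀ : G), g₀⁻¹ * k ^ m * g₀ ∈ T → g₀⁻¹ * k ^ m * g₀ = k ^ m := fun m g₀ _ => by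
    rw [mul_assoc, ← (show Commute g₀ (k ^ m) from (show Commute g₀ k from hkc g₀).pow_right m).eq,
      inv_mul_cancel_left]
  rw [MonoidHom.transfer_eq_pow ψ k hkey]
  have e : k ^ T.index = k := by
    obtain ⟨m, hm⟩ := hodd
    rw [hm, pow_succ, pow_mul, sq, hk2, one_pow, one_mul]
  simpa only [e] using hψ

end CfsgLib.LocalEven.AmalgamS4.Recognition
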